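import Groth.Agent.L25.HomScheme.Weil
import Groth.Prelude.Def_Flatn
import Groth.Prelude.Def_Mor2

/-!
Representability of relative morphisms from a finite locally free scheme into an affine one.
-/

set_option autoImplicit false
universe u

open CategoryTheory CategoryTheory.Limits MonoidalCategory CartesianMonoidalCategory
open AlgebraicGeometry Opposite

set_option backward.isDefEq.respectTransparency.types false

noncomputable section

namespace Groth.L16.MorSAff

variable {S Z X : Scheme.{u}} (g : Z ⟶ S)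

/-- The base change to `Z` is the product with `Z`. -/
def κ (T : Over S) : (Over.map g).obj ((Over.pullback g).obj T) ≅ Over.mk g ⊗ T :=
  Over.isoMk (pullbackSymmetry T.hom g) (by
    show (pullbackSymmetry T.hom g).hom ≫ pullback.fst g T.hom ≫ g = pullback.snd T.hom g ≫ g
    rw [pullbackSymmetry_hom_comp_fst_assoc])

theorem κ_natural {T T' : Over S} (a : T' ⟶ T) :
    (Over.map g).map ((Over.pullback g).map a) ≫ (κ g T).hom = (κ g T').hom ≫ (Over.mk g ◁ a) := by
  apply Over.OverMorphism.ext
  show pullback.lift (pullback.fst T'.hom g ≫ a.left) (pullback.snd T'.hom g) _ ≫ (pullbackSymmetry T.hom g).hom =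
    (pullbackSymmetry T'.hom g).hom ≫ (Over.mk g ◁ a).left
  apply pullback.hom_ext
  · have h : (Over.mk g ◁ a).left ≫ pullback.fst g T.hom = pullback.fst g T'.hom :=
      congrArg (fun m => m.left) (whiskerLeft_fst (Over.mk g) a)
    rw [Category.assoc, Category.assoc, pullbackSymmetry_hom_comp_fst]
    refine (pullback.lift_snd _ _ _).trans ?_
    erw [h, pullbackSymmetry_hom_comp_fst]
  · have h : (Over.mk g ◁ a).left ≫ pullback.snd g T.hom = pullback.snd g T'.hom ≫ a.left :=
      congrArg (fun m => m.left) (whiskerLeft_snd (Over.mk g) a)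
    rw [Category.assoc, Category.assoc, pullbackSymmetry_hom_comp_snd]
    refine (pullback.lift_fst _ _ _).trans ?_
    erw [h, pullbackSymmetry_hom_comp_snd_assoc]

theorem exists_affine_rep (f : X ⟶ S) (hg : Mor2.IsFinLocFree g) [IsAffineHom f] :
    ∃ W : Over S, IsAffineHom W.hom ∧ Nonempty ((Flatn.morS g f).RepresentableBy W) := by
  haveI : IsFinite (Over.mk g).hom := hg.1
  haveI : Flat (Over.mk g).hom := hg.2.1
  haveI : LocallyOfFinitePresentation (Over.mk g).hom := hg.2.2
  haveI : IsAffineHom (Over.mk f).hom := inferInstanceAs (IsAffineHom f)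
  obtain ⟨A, υ, hrep, hA, -, -⟩ := Groth.L25.HomScheme.exists_weil (Over.mk g) (Over.mk f)
  have hb : ∀ T : Over S, Function.Bijective
      fun a : T ⟶ A => (κ g T).hom ≫ (Over.mk g ◁ a) ≫ υ := fun T =>
    ⟨fun a b h => hrep.ext ((cancel_epi (κ g T).hom).1 h), fun x => by
      obtain ⟨a, ha, -⟩ := hrep T ((κ g T).inv ≫ x)
      refine ⟨a, ?_⟩
      show (κ g T).hom ≫ (Over.mk g ◁ a) ≫ υ = x
      rw [← Groth.L25.HomScheme.mor_res, ha, Iso.hom_inv_id_assoc]⟩
  exact ⟨A, hA, ⟨{
    homEquiv := fun {T} => Equiv.ofBijective _ (hb T)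
    homEquiv_comp := fun {T T'} a b => by
      show (κ g T).hom ≫ (Over.mk g ◁ (a ≫ b)) ≫ υ =
        (Over.map g).map ((Over.pullback g).map a) ≫ (κ g T').hom ≫ (Over.mk g ◁ b) ≫ υ
      rw [MonoidalCategory.whiskerLeft_comp, Category.assoc, ← Category.assoc _ (κ g T').hom, κ_natural,
        Category.assoc] }⟩⟩

end Groth.L16.MorSAff
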